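import Groth.Agent.H23Para.Lift.Module
import Groth.Agent.H10Coh.QcqsPush
import Groth.Agent.H23Para.Restrict

/-!
# The Picard group of a punctured spectrum through functionals on modules
-/

set_option autoImplicit false
set_option linter.style.haveILetI false

noncomputable section

universe u

open CategoryTheory CategoryTheory.Limits AlgebraicGeometry Opposite TopologicalSpace
open Groth.Agent.H11Tilde

namespace Groth.Agent.H23Para.Lift

variable {R : CommRingCat.{u}} [IsLocalRing R] [IsNoetherianRing R]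

theorem Db_le_punctured {g : R} (hg : g ∈ IsLocalRing.maximalIdeal R) : Db (R := R) g ≤ FEt.puncturedSpec R :=
  fun _ hp hpe => hp ((hpe : _ = IsLocalRing.closedPoint R) ▸ hg)

omit [IsLocalRing R] [IsNoetherianRing R] in
/-- A module invertible on an open `U` with trivial line bundle has a functional surjective on `U`. -/
theorem exists_functional_of_open (U : (Spec R).Opens) (hcst : Function.Bijective (cst R U)) (M : ModuleCat.{u} R)
    (hgen : ∀ p : PrimeSpectrum R, p ∈ U → ∃ (f : R) (a : M), Db (R := R) f ≤ U ∧ f ∉ p.asIdeal ∧ GenOn f a)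
    (e : (tilde M).restrict U.ι ≅ Coh.structureModule (U : Scheme.{u})) :
    ∃ δ : M →ₗ[R] R, ∀ p : PrimeSpectrum R, p ∈ U → ∃ q : M, δ q ∉ p.asIdeal := by
  let L : (Spec R).Modules := tilde M
  let e₀ : M →ₗ[R] Γ(L, ⊤) := (tilde.toOpen M ⊤).hom
  have he₀ : Function.Bijective e₀ := ConcreteCategory.bijective_of_isIso (tilde.isoTop M).hom
  let E := LinearEquiv.ofBijective e₀ he₀
  obtain ⟨s, hs⟩ := exists_bijective_smul L U e
  have hb : Function.Bijective (fun r : R => r • s) := by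
    have := (hs U le_rfl).comp hcst
    refine Eq.mpr (congrArg Function.Bijective (funext fun r => ?_)) this
    simp only [Function.comp_apply]
    rw [H10Coh.mres_self]
    exact smul_eq_cst_smul L U r s
  let res : M →ₗ[R] Γ(L, U) :=
    { toFun := fun q => L.presheaf.map (homOfLE (le_top : U ≤ ⊤)).op (e₀ q)
      map_add' := fun a b => by simp
      map_smul' := fun r a => by
        show L.presheaf.map _ (e₀ (r • a)) = r • L.presheaf.map _ (e₀ a)
        rw [map_smul]
        exact res_smul_Spec L le_top r (e₀ a) }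
  let δ : M →ₗ[R] R :=
    (LinearEquiv.ofBijective (LinearMap.toSpanSingleton R Γ(L, U) s) hb).symm.toLinearMap ∘ₗ res
  have hδ : ∀ q : M, (δ q : R) • s = res q := fun q =>
    (LinearEquiv.ofBijective (LinearMap.toSpanSingleton R Γ(L, U) s) hb).apply_symm_apply (res q)
  refine ⟨δ, fun p hp => ?_⟩
  obtain ⟨f, a, hfU, hf, hfa⟩ := hgen p hp
  refine ⟨a, fun hmem => ?_⟩
  have hV : Db (R := R) f ≤ U := hfU
  have hg := isGen_of_genOn L (hfa.map_equiv E)
  obtain ⟨w, hw⟩ := (hg.bijective le_rfl).2 (L.presheaf.map (homOfLE hV).op s)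
  have h1 := congrArg (L.presheaf.map (homOfLE hV).op) (hδ a)
  rw [res_smul_Spec] at h1
  have h2 : L.presheaf.map (homOfLE hV).op (res a) =
      L.presheaf.map (homOfLE (le_top : Db (R := R) f ≤ ⊤)).op (E a) := H10Coh.mres_mres _ _ _ _
  beta_reduce at hw
  rw [H10Coh.mres_self, ← h2, ← h1, smul_eq_cst_smul, smul_smul] at hw
  have h3 : w * cst R (Db (R := R) f) (δ a) = 1 := by
    refine (hs _ hV).1 ?_
    beta_reduce
    rw [hw, one_smul]
  have h4 := congrArg ((Spec R).presheaf.germ (Db (R := R) f) p hf) h3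
  rw [map_mul, map_one] at h4
  have h5 : IsUnit ((Spec R).presheaf.germ (Db (R := R) f) p hf (cst R (Db (R := R) f) (δ a))) :=
    isUnit_of_dvd_one ⟨_, by rw [mul_comm, h4]⟩
  have h5' := (Scheme.mem_basicOpen (Spec R) (cst R (Db (R := R) f) (δ a)) (p : (Spec R : Scheme.{u})) hf).mpr h5
  have h6 : p ∈ (Spec R).basicOpen ((Scheme.ΓSpecIso R).inv (δ a)) := by
    have := (Scheme.basicOpen_res (Spec R) ((Scheme.ΓSpecIso R).inv (δ a))
      (homOfLE (le_top : Db (R := R) f ≤ ⊤)).op).le h5'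
    exact this.2
  rw [basicOpen_eq_of_affine] at h6
  exact h6 hmem

/-- With trivial punctured Picard group, modules of rank one off the closed point have functionals surjective
there. -/
theorem exists_functional (hd : (2 : ℕ∞) ≤ LocCoh.depth R R)
    (hpic : ParaF.PicTrivial (FEt.puncturedSpec R : Scheme.{u})) (M : ModuleCat.{u} R) (hM : LocTriv R M) :
    ∃ δ : M →ₗ[R] R, ∀ p : PrimeSpectrum R, p ≠ IsLocalRing.closedPoint R → ∃ q : M, δ q ∉ p.asIdeal := by
  let U : (Spec R).Opens := FEt.puncturedSpec R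
  let L : (Spec R).Modules := tilde M
  let e₀ : M →ₗ[R] Γ(L, ⊤) := (tilde.toOpen M ⊤).hom
  have he₀ : Function.Bijective e₀ := ConcreteCategory.bijective_of_isIso (tilde.isoTop M).hom
  let E := LinearEquiv.ofBijective e₀ he₀
  have hgen : ∀ z : PrimeSpectrum R, z ≠ IsLocalRing.closedPoint R →
      ∃ (f : R) (a : M), f ∈ IsLocalRing.maximalIdeal R ∧ f ∉ z.asIdeal ∧ GenOn f a := by
    intro z hz
    obtain ⟨y, x, hy, h⟩ := hM z hz
    obtain ⟨g, hg, hgz⟩ : ∃ g ∈ IsLocalRing.maximalIdeal R, g ∉ z.asIdeal := by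
      by_contra hcon
      push Not at hcon
      exact hz (PrimeSpectrum.ext (((IsLocalRing.maximalIdeal.isMaximal R).eq_of_le z.isPrime.ne_top hcon).symm))
    exact ⟨g * y x, x, Ideal.mul_mem_right _ _ hg, z.isPrime.mul_notMem hgz hy, genOn_of_eq h g⟩
  have hinv : PicF.IsInvertible (L.restrict U.ι) := by
    intro x
    obtain ⟨f, a, hfm, hf, hfa⟩ := hgen x.1 x.2
    have hg := isGen_of_genOn L (hfa.map_equiv E)
    obtain ⟨e⟩ := Groth.Agent.H11Tilde.nonempty_iso_structureModule L (Db (R := R) f) _ fun V hV => hg.bijective hV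
    exact ⟨U.ι ⁻¹ᵁ Db (R := R) f, hf, restrict_restrict_trivial (Db_le_punctured hfm) L e⟩
  obtain ⟨e⟩ := hpic _ hinv
  exact exists_functional_of_open U
    ((bijective_punctured_iff.mpr hd).comp (ConcreteCategory.bijective_of_isIso (Scheme.ΓSpecIso R).inv)) M
    (fun p hp => by
      obtain ⟨f, a, hfm, hf, hfa⟩ := hgen p hp
      exact ⟨f, a, Db_le_punctured hfm, hf, hfa⟩) e

/-- A generator near every point of an open on which a quasi-coherent module is invertible. -/
theorem exists_genOn_of_isInvertible (P : (Spec R).Modules) [P.IsQuasicoherent] {U : (Spec R).Opens}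
    (hP : PicF.IsInvertible (P.restrict U.ι)) {p : PrimeSpectrum R} (hp : p ∈ U) :
    ∃ (b : R) (q : Γ(P, ⊤)), b ∉ p.asIdeal ∧ Db (R := R) b ≤ U ∧ GenOn b q := by
  obtain ⟨W, hpW, ⟨e⟩⟩ := hP ⟨p, hp⟩
  obtain ⟨e'⟩ : Nonempty (P.restrict (U.ι ''ᵁ W).ι ≅ Coh.structureModule _) :=
    ⟨restrictImageIso U.ι P W ≪≫ (Scheme.Modules.restrictFunctor (U.ι.isoImage W).inv).mapIso e ≪≫
      Scheme.Modules.restrictUnitIso (U.ι.isoImage W).inv⟩
  obtain ⟨s, hs⟩ := exists_bijective_smul P _ e'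
  obtain ⟨_, ⟨b, rfl⟩, hpb, hsub⟩ := PrimeSpectrum.isTopologicalBasis_basic_opens.exists_subset_of_mem_open
    (show p ∈ (U.ι ''ᵁ W : (Spec R).Opens) from ⟨⟨p, hp⟩, hpW, rfl⟩) (U.ι ''ᵁ W).isOpen
  have hle : Db (R := R) b ≤ U.ι ''ᵁ W := hsub
  refine ⟨b, ?_⟩
  let σ := P.presheaf.map (homOfLE hle).op s
  obtain ⟨n, q, hq⟩ := exists_pow_smul_eq_map P b σ
  refine ⟨q, hpb, hle.trans (U.ι_image_le W), fun z => ?_, fun a ha => ?_⟩
  · obtain ⟨c, hc⟩ := (hs _ hle).2 (P.presheaf.map (homOfLE le_top).op z)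
    beta_reduce at hc
    obtain ⟨m, a, hm⟩ := exists_frac b c
    obtain ⟨N, hN⟩ := exists_pow_smul_eq_zero_of_res P b (b ^ (n + m) • z - a • q) (by
      rw [map_sub, res_smul_Spec, res_smul_Spec, hq, sub_eq_zero, smul_eq_cst_smul, ← hc, smul_smul, smul_smul,
        smul_eq_cst_smul, map_mul, map_pow, map_pow, hm, pow_add]
      congr 1
      ring)
    refine ⟨N + (n + m), b ^ N * a, ?_⟩
    rw [pow_add b N, mul_smul, mul_smul, ← sub_eq_zero, ← smul_sub]
    exact hN
  · have h0 := congrArg (P.presheaf.map (homOfLE (le_top : Db (R := R) b ≤ ⊤)).op) ha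
    rw [res_smul_Spec, hq, map_zero, smul_smul, smul_eq_cst_smul] at h0
    obtain ⟨k, hk⟩ := exists_pow_mul_eq_zero_of_cst b (a * b ^ n) ((hs _ hle).1 (by
      beta_reduce
      rw [zero_smul]
      exact h0))
    exact ⟨k + n, by rw [pow_add]; linear_combination hk⟩

set_option maxHeartbeats 1000000 in
/-- An invertible module on the punctured spectrum is trivial if the finite models of it have functionals
surjective off the closed point. -/
theorem iso_of_functional (L : ((FEt.puncturedSpec R : (Spec R).Opens) : Scheme.{u}).Modules) (hL : PicF.IsInvertible L)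
    (h : ∀ S : Submodule R Γ((Scheme.Modules.pushforward (FEt.puncturedSpec R : (Spec R).Opens).ι).obj L, ⊤),
      Module.Finite R S → LocTriv R S →
      (∀ p : (FEt.puncturedSpec R : (Spec R).Opens), ∃ (b : R) (m : S), b ∉ p.1.asIdeal ∧
        Db (R := R) b ≤ FEt.puncturedSpec R ∧ GenOn b m.1) →
      ∃ y : S →ₗ[R] R, ∀ p : PrimeSpectrum R, p ≠ IsLocalRing.closedPoint R → ∃ z : S, y z ∉ p.asIdeal) :
    Nonempty (L ≅ Coh.structureModule _) := by
  classical
  let U : (Spec R).Opens := FEt.puncturedSpec R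
  haveI : IsNoetherianRing (CommRingCat.of R) := ‹IsNoetherianRing R›
  haveI : NoetherianSpace (U : Scheme.{u}) := U.ι.isOpenEmbedding.isInducing.noetherianSpace
  haveI : QuasiCompact U.ι := quasiCompact_of_noetherianSpace_source U.ι
  haveI : L.IsQuasicoherent := H28Mero.isQCoh_of_isInvertible hL
  let P := (Scheme.Modules.pushforward U.ι).obj L
  haveI : P.IsQuasicoherent := H10Coh.isQuasicoherent_pushforward U.ι L
  have hP : PicF.IsInvertible (P.restrict U.ι) := H11Tilde.isInvertible_of_iso (restrictPushIso U.ι L).symm hL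
  choose b q hb hbU hgen using fun p : U => exists_genOn_of_isInvertible P hP p.2
  obtain ⟨F, hFsub, hF⟩ := (Submodule.fg_span_iff_fg_span_finset_subset (Set.range b)).mp
    (IsNoetherian.noetherian (Submodule.span R (Set.range b)))
  choose idx hidx using fun x : F => hFsub (Finset.mem_coe.mpr x.2)
  have hcov : ∀ p : U, ∃ x : F, b (idx x) ∉ p.1.asIdeal := by
    intro p
    by_contra hcon
    push Not at hcon
    refine hb p ?_
    have hle : Submodule.span R (F : Set R) ≤ p.1.asIdeal :=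
      Submodule.span_le.mpr fun x hx => by simpa [hidx] using hcon ⟨x, hx⟩
    exact hle (hF ▸ Submodule.subset_span ⟨p, rfl⟩)
  let S : Submodule R Γ(P, ⊤) := Submodule.span R ((Finset.univ.image fun x : F => q (idx x) : Finset Γ(P, ⊤)) : Set Γ(P, ⊤))
  have hqS : ∀ x : F, q (idx x) ∈ S := fun x =>
    Submodule.subset_span (Finset.mem_coe.mpr (Finset.mem_image.mpr ⟨x, Finset.mem_univ x, rfl⟩))
  haveI : Module.Finite R S := Module.Finite.span_finset _ _
  have hgenS : ∀ x : F, GenOn (b (idx x)) (⟨q (idx x), hqS x⟩ : S) := fun x => by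
    refine ⟨fun z => ?_, fun a ha => (hgen (idx x)).2 a (congrArg Subtype.val ha)⟩
    obtain ⟨j, a, ha⟩ := (hgen (idx x)).1 z.1
    exact ⟨j, a, Subtype.ext ha⟩
  obtain ⟨y, hy⟩ := h S inferInstance (locTriv_of_genOn fun p hp => by
    obtain ⟨x, hbx⟩ := hcov ⟨p, hp⟩
    exact ⟨_, _, hbx, hgenS x⟩) fun p => by
    obtain ⟨x, hbx⟩ := hcov p
    exact ⟨_, ⟨q (idx x), hqS x⟩, hbx, hbU _, hgen (idx x)⟩
  have hdata : ∀ p : U, ∃ (e t : R) (m : S), p.1 ∈ Db (R := R) e ∧ Db (R := R) e ≤ U ∧ t = y m ∧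
      Db (R := R) e ≤ Db (R := R) t ∧ IsGen P (P.presheaf.map (homOfLE (le_top : Db (R := R) e ≤ ⊤)).op m.1) ∧
      ∀ m' : S, ∃ (j : ℕ), e ^ j • (y m • m') = e ^ j • (y m' • m) := by
    intro p
    obtain ⟨x, hbx⟩ := hcov p
    obtain ⟨z, hz⟩ := hy p.1 p.2
    let m : S := ⟨q (idx x), hqS x⟩
    have hym : y m ∉ p.1.asIdeal := by
      obtain ⟨j, a, ha⟩ := (hgenS x).1 z
      intro hmem
      have := congrArg y ha
      rw [map_smul, map_smul, smul_eq_mul, smul_eq_mul] at this
      refine p.1.isPrime.mul_notMem (fun h => hbx (p.1.isPrime.mem_of_pow_mem j h)) hz ?_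
      rw [this]
      exact Ideal.mul_mem_left _ _ hmem
    have hle₁ : Db (R := R) (b (idx x) * y m) ≤ Db (R := R) (b (idx x)) := PrimeSpectrum.basicOpen_mul_le_left _ _
    refine ⟨b (idx x) * y m, y m, m, p.1.isPrime.mul_notMem hbx hym, hle₁.trans (hbU _), rfl,
      PrimeSpectrum.basicOpen_mul_le_right _ _, ?_, fun m' => ?_⟩
    · have := (isGen_of_genOn P (hgen (idx x))).res hle₁
      rwa [H10Coh.mres_mres] at this
    · obtain ⟨j, a, ha⟩ := (hgenS x).1 m'
      refine ⟨j, ?_⟩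
      have h1 := congrArg y ha
      rw [map_smul, map_smul, smul_eq_mul, smul_eq_mul] at h1
      rw [mul_pow, mul_comm (b (idx x) ^ j), mul_smul, mul_smul]
      congr 1
      rw [smul_comm, ha, smul_smul, smul_smul, h1, mul_comm a]
  choose e t m hpe heU ht het hem hsymm using hdata
  let W : U → (Spec R).Opens := fun p => Db (R := R) (e p)
  have hu : ∀ (p : U) (V : (Spec R).Opens), V ≤ W p → IsUnit (cst R V (t p)) :=
    fun p V hV => isUnit_cst (hV.trans (het p))
  let σ : ∀ p : U, Γ(P, W p) := fun p =>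
    (↑(hu p (W p) le_rfl).unit⁻¹ : Γ(Spec R, W p)) • P.presheaf.map (homOfLE le_top).op (m p).1
  have hσ : ∀ (p : U) (V : (Spec R).Opens) (hV : V ≤ W p),
      cst R V (t p) • P.presheaf.map (homOfLE hV).op (σ p) = P.presheaf.map (homOfLE le_top).op (m p).1 := fun p V hV => by
    rw [← res_smul_cst hV, ← Scheme.Modules.map_smul, smul_smul, IsUnit.mul_val_inv, one_smul]
    exact H10Coh.mres_mres _ _ _ _
  have hcompat : TopCat.Presheaf.IsCompatible P.presheaf W σ := by
    intro p p'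
    let V := W p ⊓ W p'
    have h1 := hσ p V inf_le_left
    have h2 := hσ p' V inf_le_right
    obtain ⟨j, hj⟩ := hsymm p (m p')
    have h3 := congrArg (fun z : S => P.presheaf.map (homOfLE (le_top : V ≤ ⊤)).op z.1) hj
    simp only [SetLike.val_smul] at h3
    rw [← ht p, ← ht p', res_smul_Spec, res_smul_Spec, res_smul_Spec, res_smul_Spec, smul_eq_cst_smul,
      smul_eq_cst_smul, smul_eq_cst_smul, smul_eq_cst_smul] at h3
    have h4 := ((isUnit_cst (show V ≤ Db (R := R) (e p) from inf_le_left)).pow j)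
    rw [← map_pow] at h4
    have h5 := h4.smul_left_cancel.mp h3
    rw [← h1, ← h2, smul_smul, smul_smul, mul_comm (cst R V (t p'))] at h5
    exact (((hu p V inf_le_left).mul (hu p' V inf_le_right)).smul_left_cancel.mp h5).symm
  obtain ⟨s, hs, -⟩ := TopCat.Sheaf.existsUnique_gluing' ⟨P.presheaf, P.isSheaf⟩ W U
    (fun p => homOfLE (heU p)) (fun p hp => Opens.mem_iSup.2 ⟨⟨p, hp⟩, hpe ⟨p, hp⟩⟩) σ hcompat
  have hgs : IsGen P s := by
    intro z hz
    let p : U := ⟨z, hz⟩
    have hsz : P.presheaf.germ U z hz s = P.presheaf.germ (W p) z (hpe p) (σ p) := by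
      rw [← hs p]
      exact (TopCat.Presheaf.germ_res_apply _ _ _ _ _).symm
    have hb := hem p z (hpe p)
    rw [← hσ p (W p) le_rfl, H10Coh.mres_self, H06Mod.germ_smul] at hb
    rw [hsz]
    obtain ⟨v, hv⟩ := (hu p (W p) le_rfl).map ((Spec R).presheaf.germ (W p) z (hpe p)).hom
    rw [← hv] at hb
    simp only [smul_smul] at hb
    refine (Function.Bijective.of_comp_iff _ (v.mulRight.bijective)).mp ?_
    exact hb
  obtain ⟨i⟩ := Groth.Agent.H11Tilde.nonempty_iso_structureModule P U s fun V hV => hgs.bijective hV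
  exact ⟨(restrictPushIso U.ι L).symm ≪≫ i⟩

/-- Trivial punctured Picard group from functionals surjective off the closed point. -/
theorem picTrivial_of_functional
    (h : ∀ M : ModuleCat.{u} R, Module.Finite R M → LocTriv R M →
      ∃ y : M →ₗ[R] R, ∀ p : PrimeSpectrum R, p ≠ IsLocalRing.closedPoint R → ∃ z : M, y z ∉ p.asIdeal) :
    ParaF.PicTrivial (FEt.puncturedSpec R : Scheme.{u}) :=
  fun L hL => iso_of_functional L hL fun S hS hM _ => h (ModuleCat.of R S) hS hM

/-- The Picard group of the punctured spectrum is trivial if it is modulo an ideal with bases of the graded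
pieces. -/
theorem depth_and_picTrivial_of_grBasis (A : Type u) [CommRing A] [IsLocalRing A] [IsNoetherianRing A] (J : Ideal A)
    (hJ : J ≠ ⊤) [IsLocalRing (A ⧸ J)] (hd : (3 : ℕ∞) ≤ LocCoh.depth (A ⧸ J) (A ⧸ J)) (B : ∀ n, GrBasis J n)
    (h0 : ParaF.PicTrivial (FEt.puncturedSpec (A ⧸ J) : Scheme.{u})) :
    (3 : ℕ∞) ≤ LocCoh.depth A A ∧ ParaF.PicTrivial (FEt.puncturedSpec A : Scheme.{u}) := by
  classical
  obtain ⟨a, b, c, hma, hmb, hmc, ha, hb, hc⟩ := exists_colon hJ hd
  refine ⟨three_le_depth hJ ⟨hma, hmb, hmc⟩ B ha hb hc, ?_⟩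
  refine picTrivial_of_functional (R := CommRingCat.of A) fun M _ hM => ?_
  let π := Ideal.Quotient.mk J
  let M₀ := M ⧸ (J • (⊤ : Submodule A M))
  have hcl : ∀ p₀ : PrimeSpectrum (A ⧸ J), p₀ ≠ IsLocalRing.closedPoint (A ⧸ J) →
      (⟨p₀.asIdeal.comap π, inferInstance⟩ : PrimeSpectrum A) ≠ IsLocalRing.closedPoint A := by
    intro p₀ hp h
    refine hp (PrimeSpectrum.ext ((IsLocalRing.maximalIdeal.isMaximal _).eq_of_le p₀.isPrime.ne_top ?_).symm)
    have h' : p₀.asIdeal.comap π = IsLocalRing.maximalIdeal A := congrArg PrimeSpectrum.asIdeal h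
    rw [← IsLocalRing.map_maximalIdeal_of_surjective π Ideal.Quotient.mk_surjective, ← h']
    exact Ideal.map_comap_le
  have hM₀ : LocTriv (A ⧸ J) M₀ := by
    intro p₀ hp
    obtain ⟨y, x, hy, hz⟩ := hM _ (hcl p₀ hp)
    let y₁ : M₀ →ₗ[A] A ⧸ J := (J • (⊤ : Submodule A M)).liftQ (J.mkQ.comp y) (by
      refine Submodule.smul_le.mpr fun r hr z _ => ?_
      rw [LinearMap.mem_ker, LinearMap.comp_apply, map_smul, Submodule.mkQ_apply, Submodule.Quotient.mk_eq_zero]
      exact J.mul_mem_right _ hr)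
    let y₀ : M₀ →ₗ[A ⧸ J] A ⧸ J :=
      { y₁ with
        map_smul' := fun r z => by
          obtain ⟨r, rfl⟩ := Ideal.Quotient.mk_surjective r
          exact y₁.map_smul r z }
    refine ⟨y₀, Submodule.Quotient.mk x, hy, fun z => ?_⟩
    obtain ⟨z, rfl⟩ := Submodule.Quotient.mk_surjective _ z
    exact congrArg Submodule.Quotient.mk (hz z)
  obtain ⟨δ₀, hδ₀⟩ := exists_functional (R := CommRingCat.of (A ⧸ J)) ((by exact_mod_cast (le_trans (by norm_num) hd)))
    h0 (ModuleCat.of (A ⧸ J) M₀) hM₀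
  let δ₁ : M₀ →ₗ[A ⧸ J] A ⧸ J := δ₀
  let δ : M →ₗ[A] A ⧸ J := (δ₁.restrictScalars A).comp (J • (⊤ : Submodule A M)).mkQ
  obtain ⟨y, hy⟩ := exists_functional_of_quotient hJ hd B hM δ fun p hp hJp => by
    have hker : RingHom.ker π ≤ p.asIdeal := by rwa [Ideal.mk_ker]
    have hcm : (p.asIdeal.map π).comap π = p.asIdeal := by
      rw [Ideal.comap_map_of_surjective π Ideal.Quotient.mk_surjective, ← RingHom.ker_eq_comap_bot, sup_eq_left]
      exact hker
    let p₀ : PrimeSpectrum (A ⧸ J) :=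
      ⟨p.asIdeal.map π, Ideal.map_isPrime_of_surjective Ideal.Quotient.mk_surjective hker⟩
    obtain ⟨z₀, hz₀⟩ := hδ₀ p₀ fun h => hp (PrimeSpectrum.ext (by
      rw [← hcm, show p.asIdeal.map π = IsLocalRing.maximalIdeal (A ⧸ J) from congrArg PrimeSpectrum.asIdeal h]
      haveI : IsLocalHom π := .of_surjective π Ideal.Quotient.mk_surjective
      exact IsLocalRing.maximalIdeal_comap π))
    obtain ⟨z, rfl⟩ := Submodule.Quotient.mk_surjective _ z₀
    obtain ⟨t, ht⟩ := Ideal.Quotient.mk_surjective (δ z)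
    exact ⟨z, t, ht.symm, fun hmem => hz₀ ((ht : π t = δ₀ _) ▸ Ideal.mem_map_of_mem π hmem)⟩
  exact ⟨y, hy⟩

/-- The Picard group of the punctured spectrum is trivial if it is modulo an ideal with free graded pieces. -/
theorem depth_and_picTrivial (A : Type u) [CommRing A] [IsLocalRing A] [IsNoetherianRing A] (J : Ideal A)
    (hJ : J ≠ ⊤) [IsLocalRing (A ⧸ J)] (hd : (3 : ℕ∞) ≤ LocCoh.depth (A ⧸ J) (A ⧸ J))
    (hgr : ∀ n : ℕ, Module.Free (A ⧸ J) (↥(J ^ n) ⧸ (J • (⊤ : Submodule A ↥(J ^ n)))))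
    (h0 : ParaF.PicTrivial (FEt.puncturedSpec (A ⧸ J) : Scheme.{u})) :
    (3 : ℕ∞) ≤ LocCoh.depth A A ∧ ParaF.PicTrivial (FEt.puncturedSpec A : Scheme.{u}) :=
  depth_and_picTrivial_of_grBasis A J hJ hd (fun n => (nonempty_grBasis hJ n (hgr n)).some) h0

end Groth.Agent.H23Para.Lift
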