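import Groth.Prelude.Def_CAlg
import Groth.Agent.H4Depth.IdealDepth
import Mathlib.RingTheory.Filtration
import Mathlib.RingTheory.Regular.RegularSequence

/-!
# Regular sequences modulo the powers of an ideal with free graded pieces
-/

set_option autoImplicit false

noncomputable section

universe u

open RingTheory.Sequence

namespace Groth.Agent.H23Para.Lift

variable {A : Type u} [CommRing A]

/-- `c` is regular modulo `I` and `a`, `b`. -/
def Colon (I : Ideal A) (a b c : A) : Prop :=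
  ∀ t s r, c * t - a * s - b * r ∈ I → ∃ t₁ t₂, t - a * t₁ - b * t₂ ∈ I

/-- A basis of the `n`-th graded piece of an ideal. -/
structure GrBasis (J : Ideal A) (n : ℕ) where
  r : ℕ
  el : Fin r → A
  el_mem : ∀ l, el l ∈ J ^ n
  span : ∀ v ∈ J ^ n, ∃ c : Fin r → A, v - ∑ l, c l * el l ∈ J ^ (n + 1)
  indep : ∀ c : Fin r → A, ∑ l, c l * el l ∈ J ^ (n + 1) → ∀ l, c l ∈ J

variable {J : Ideal A}

/-- A basis of a graded piece from its freeness. -/
theorem nonempty_grBasis [IsNoetherianRing A] (hJ : J ≠ ⊤) (n : ℕ)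
    (h : Module.Free (A ⧸ J) (↥(J ^ n) ⧸ (J • (⊤ : Submodule A ↥(J ^ n))))) : Nonempty (GrBasis J n) := by
  haveI := Ideal.Quotient.nontrivial_iff.mpr hJ
  haveI : Module.Finite (A ⧸ J) (↥(J ^ n) ⧸ (J • (⊤ : Submodule A ↥(J ^ n)))) :=
    Module.Finite.of_restrictScalars_finite A _ _
  let b := Module.finBasis (A ⧸ J) (↥(J ^ n) ⧸ (J • (⊤ : Submodule A ↥(J ^ n))))
  choose e he using fun l => Submodule.Quotient.mk_surjective _ (b l)
  have hmem : ∀ x : ↥(J ^ n), x ∈ J • (⊤ : Submodule A ↥(J ^ n)) ↔ (x : A) ∈ J ^ (n + 1) := fun x => by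
    rw [Submodule.mem_smul_top_iff, pow_succ', smul_eq_mul]
  have hsum : ∀ c : Fin _ → A, (Submodule.Quotient.mk (∑ l, c l • e l) :
      ↥(J ^ n) ⧸ (J • (⊤ : Submodule A ↥(J ^ n)))) = ∑ l, Ideal.Quotient.mk J (c l) • b l := fun c => by
    rw [← Submodule.mkQ_apply, map_sum]
    exact Finset.sum_congr rfl fun l _ => (map_smul _ _ _).trans (congrArg (c l • ·) (he l))
  refine ⟨⟨_, fun l => (e l : A), fun l => (e l).2, fun v hv => ?_, fun c hc l => ?_⟩⟩
  · choose c hc using fun l => Ideal.Quotient.mk_surjective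
      (b.repr (Submodule.Quotient.mk (⟨v, hv⟩ : ↥(J ^ n))) l)
    refine ⟨c, ?_⟩
    have h0 : (⟨v, hv⟩ : ↥(J ^ n)) - ∑ l, c l • e l ∈ J • (⊤ : Submodule A ↥(J ^ n)) := by
      rw [← Submodule.Quotient.eq, hsum, Finset.sum_congr rfl fun l _ => congrArg (· • b l) (hc l), b.sum_repr]
    simpa using (hmem _).mp h0
  · have h0 : ∑ l, c l • e l ∈ J • (⊤ : Submodule A ↥(J ^ n)) := (hmem _).mpr (by simpa using hc)
    rw [← Submodule.Quotient.mk_eq_zero, hsum] at h0
    exact Ideal.Quotient.eq_zero_iff_mem.mp (Fintype.linearIndependent_iff.mp b.linearIndependent _ h0 l)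

variable (J) in
/-- Regularity modulo `J` passes to each graded piece. -/
theorem step {a b c : A} (h : Colon J a b c) {n : ℕ} (B : GrBasis J n) {v w₁ w₂ : A}
    (hv : v ∈ J ^ n) (h₁ : w₁ ∈ J ^ n) (h₂ : w₂ ∈ J ^ n) (he : c * v - a * w₁ - b * w₂ ∈ J ^ (n + 1)) :
    ∃ v₁ ∈ J ^ n, ∃ v₂ ∈ J ^ n, v - a * v₁ - b * v₂ ∈ J ^ (n + 1) := by
  obtain ⟨p, hp⟩ := B.span v hv
  obtain ⟨q, hq⟩ := B.span w₁ h₁
  obtain ⟨s, hs⟩ := B.span w₂ h₂
  have h3 : ∑ l, (c * p l - a * q l - b * s l) * B.el l ∈ J ^ (n + 1) := by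
    have := (J ^ (n + 1)).sub_mem he ((J ^ (n + 1)).sub_mem ((J ^ (n + 1)).sub_mem ((J ^ (n + 1)).mul_mem_left c hp)
      ((J ^ (n + 1)).mul_mem_left a hq)) ((J ^ (n + 1)).mul_mem_left b hs))
    convert this using 1
    simp only [sub_mul, Finset.sum_sub_distrib, mul_assoc, ← Finset.mul_sum]
    ring
  choose t₁ t₂ ht using fun l => h (p l) (q l) (s l) (B.indep _ h3 l)
  have hm : ∀ t : Fin B.r → A, ∑ l, t l * B.el l ∈ J ^ n := fun t =>
    Submodule.sum_mem _ fun l _ => (J ^ n).mul_mem_left _ (B.el_mem l)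
  refine ⟨_, hm t₁, _, hm t₂, ?_⟩
  have h4 : ∑ l, (p l - a * t₁ l - b * t₂ l) * B.el l ∈ J ^ (n + 1) :=
    Submodule.sum_mem _ fun l _ => by
      rw [pow_succ']
      exact Ideal.mul_mem_mul (ht l) (B.el_mem l)
  convert (J ^ (n + 1)).add_mem hp h4 using 1
  simp only [sub_mul, Finset.sum_sub_distrib, mul_assoc, ← Finset.mul_sum]
  ring

section

variable (J) {a b c : A} (B : ∀ n, GrBasis J n) (ha : Colon J 0 0 a) (hb : Colon J a 0 b) (hc : Colon J a b c)

include B ha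

theorem mem_pow_of_mul_mem : ∀ (n : ℕ) (t : A), a * t ∈ J ^ n → t ∈ J ^ n := by
  intro n
  induction n with
  | zero => simp
  | succ n ih =>
    intro t ht
    have ht' : t ∈ J ^ n := ih t (Ideal.pow_le_pow_right n.le_succ ht)
    obtain ⟨v₁, -, v₂, -, h⟩ := step J ha (B n) ht' (zero_mem _) (zero_mem _) (by simpa using ht)
    simpa using h

include hb in
theorem colon_pow₂ : ∀ n : ℕ, Colon (J ^ n) a 0 b := by
  intro n
  induction n with
  | zero => exact fun t _ _ _ => ⟨0, 0, by simp⟩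
  | succ n ih =>
    intro t s r h
    obtain ⟨t₁, t₂, ht⟩ := ih t s r (Ideal.pow_le_pow_right n.le_succ h)
    rw [zero_mul, sub_zero] at ht h
    have hw : s - b * t₁ ∈ J ^ n := mem_pow_of_mul_mem J B ha n _ (by
      convert (J ^ n).sub_mem ((J ^ n).mul_mem_left b ht) (Ideal.pow_le_pow_right n.le_succ h) using 1; ring)
    obtain ⟨v₁, -, v₂, -, hv⟩ := step J hb (B n) ht hw (zero_mem _) (by
      convert h using 1; ring)
    refine ⟨t₁ + v₁, 0, ?_⟩
    convert hv using 1; ring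

include hb hc in
theorem colon_pow₃ : ∀ n : ℕ, Colon (J ^ n) a b c := by
  intro n
  induction n with
  | zero => exact fun t _ _ _ => ⟨0, 0, by simp⟩
  | succ n ih =>
    intro t s r h
    obtain ⟨t₁, t₂, ht⟩ := ih t s r (Ideal.pow_le_pow_right n.le_succ h)
    have h1 : b * (r - c * t₂) - a * (c * t₁ - s) - 0 * 0 ∈ J ^ n := by
      convert (J ^ n).sub_mem ((J ^ n).mul_mem_left c ht) (Ideal.pow_le_pow_right n.le_succ h) using 1; ring
    obtain ⟨q, q', hq⟩ := colon_pow₂ J B ha hb n _ _ _ h1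
    rw [zero_mul, sub_zero] at hq
    have hw : s - c * t₁ + b * q ∈ J ^ n := mem_pow_of_mul_mem J B ha n _ (by
      convert (J ^ n).sub_mem ((J ^ n).sub_mem ((J ^ n).mul_mem_left c ht) (Ideal.pow_le_pow_right n.le_succ h))
        ((J ^ n).mul_mem_left b hq) using 1; ring)
    obtain ⟨v₁, -, v₂, -, hv⟩ := step J hc (B n) ht hw hq (by convert h using 1; ring)
    exact ⟨t₁ + v₁, t₂ + v₂, by convert hv using 1; ring⟩

end

theorem mem_of_forall_mem_sup_pow [IsLocalRing A] [IsNoetherianRing A] (hJ : J ≠ ⊤) (I : Ideal A) {t : A}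
    (h : ∀ n : ℕ, t ∈ I ⊔ J ^ n) : t ∈ I := by
  by_cases hI : I = ⊤
  · subst hI; trivial
  haveI := Ideal.Quotient.nontrivial_iff.mpr hI
  haveI : IsLocalRing (A ⧸ I) := .of_surjective' _ Ideal.Quotient.mk_surjective
  have hJ' : J.map (Ideal.Quotient.mk I) ≠ ⊤ := ne_top_of_le_ne_top (IsLocalRing.maximalIdeal.isMaximal (A ⧸ I)).ne_top
    ((Ideal.map_mono (IsLocalRing.le_maximalIdeal hJ)).trans_eq
      (IsLocalRing.map_maximalIdeal_of_surjective _ Ideal.Quotient.mk_surjective))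
  rw [← Ideal.Quotient.eq_zero_iff_mem, ← Ideal.mem_bot, ← Ideal.iInf_pow_eq_bot_of_isLocalRing _ hJ']
  refine Submodule.mem_iInf _ |>.mpr fun n => ?_
  obtain ⟨x, hx, y, hy, rfl⟩ := Submodule.mem_sup.mp (h n)
  rw [map_add, Ideal.Quotient.eq_zero_iff_mem.mpr hx, zero_add, ← Ideal.map_pow]
  exact Ideal.mem_map_of_mem _ hy

/-- A regular sequence of length three modulo `J`, lifted to `A`. -/
theorem exists_colon [IsLocalRing A] (hJ : J ≠ ⊤) [IsLocalRing (A ⧸ J)]
    (hd : (3 : ℕ∞) ≤ LocCoh.depth (A ⧸ J) (A ⧸ J)) :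
    ∃ a b c, a ∈ IsLocalRing.maximalIdeal A ∧ b ∈ IsLocalRing.maximalIdeal A ∧ c ∈ IsLocalRing.maximalIdeal A ∧
      Colon J 0 0 a ∧ Colon J a 0 b ∧ Colon J a b c := by
  have htop : IsLocalRing.maximalIdeal (A ⧸ J) • (⊤ : Submodule (A ⧸ J) (A ⧸ J)) ≠ ⊤ := by
    rw [smul_eq_mul, ← Ideal.one_eq_top, mul_one, Ideal.one_eq_top]
    exact (IsLocalRing.maximalIdeal.isMaximal _).ne_top
  obtain ⟨rs, hlen, hmem, hreg⟩ := H4Depth.exists_isWeaklyRegular_of_le_idealDepth (n := 3) htop hd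
  obtain ⟨a', b', c', rfl⟩ := List.length_eq_three.mp hlen
  obtain ⟨a, rfl⟩ := Ideal.Quotient.mk_surjective a'
  obtain ⟨b, rfl⟩ := Ideal.Quotient.mk_surjective b'
  obtain ⟨c, rfl⟩ := Ideal.Quotient.mk_surjective c'
  let π := Ideal.Quotient.mk J
  have hm : ∀ x : A, π x ∈ IsLocalRing.maximalIdeal (A ⧸ J) → x ∈ IsLocalRing.maximalIdeal A := by
    intro x hx
    rw [IsLocalRing.mem_maximalIdeal, mem_nonunits_iff] at hx ⊢
    exact fun h => hx (h.map π)
  refine ⟨a, b, c, hm a (hmem _ (by simp [π])), hm b (hmem _ (by simp [π])), hm c (hmem _ (by simp [π])), ?_, ?_, ?_⟩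
  · intro t s r h
    have h0 := (isSMulRegular_quotient_iff_mem_of_smul_mem _ _).mp (hreg.regular_mod_prev 0 (by simp)) (π t)
    refine ⟨0, 0, ?_⟩
    simp only [mul_zero, sub_zero]
    simp only [zero_mul, sub_zero] at h
    rw [← Ideal.Quotient.eq_zero_iff_mem] at h ⊢
    simpa [π] using h0 (by simpa [π] using h)
  · intro t s r h
    have h0 := (isSMulRegular_quotient_iff_mem_of_smul_mem _ _).mp (hreg.regular_mod_prev 1 (by simp)) (π t)
    have h1 : π b * π t = π s * π a := by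
      rw [zero_mul, sub_zero, ← Ideal.Quotient.eq_zero_iff_mem, map_sub, map_mul, map_mul, sub_eq_zero] at h
      rw [h, mul_comm]
    have h2 := h0 (by
      simp only [List.take, Ideal.ofList_singleton, smul_eq_mul, ← Ideal.one_eq_top, mul_one]
      exact Ideal.mem_span_singleton'.mpr ⟨π s, h1.symm⟩)
    simp only [List.take, Ideal.ofList_singleton, smul_eq_mul, ← Ideal.one_eq_top, mul_one] at h2
    obtain ⟨t', ht'⟩ := Ideal.mem_span_singleton'.mp h2
    obtain ⟨t₁, rfl⟩ := Ideal.Quotient.mk_surjective t'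
    refine ⟨t₁, 0, ?_⟩
    rw [zero_mul, sub_zero, ← Ideal.Quotient.eq_zero_iff_mem, map_sub, map_mul, mul_comm, sub_eq_zero]
    exact ht'.symm
  · intro t s r h
    have hpair : Ideal.ofList [π a, π b] = Ideal.span {π a, π b} := by
      simp [Ideal.ofList_cons, Ideal.span_insert]
    have h0 := (isSMulRegular_quotient_iff_mem_of_smul_mem _ _).mp (hreg.regular_mod_prev 2 (by simp)) (π t)
    have h1 : π c * π t = π s * π a + π r * π b := by
      rw [← Ideal.Quotient.eq_zero_iff_mem, map_sub, map_sub, map_mul, map_mul, map_mul] at h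
      linear_combination h
    have h2 := h0 (by
      simp only [List.take, smul_eq_mul, ← Ideal.one_eq_top, mul_one]
      rw [hpair]
      exact Ideal.mem_span_pair.mpr ⟨π s, π r, h1.symm⟩)
    simp only [List.take, smul_eq_mul, ← Ideal.one_eq_top, mul_one] at h2
    rw [hpair] at h2
    obtain ⟨t₁', t₂', ht'⟩ := Ideal.mem_span_pair.mp h2
    obtain ⟨t₁, rfl⟩ := Ideal.Quotient.mk_surjective t₁'
    obtain ⟨t₂, rfl⟩ := Ideal.Quotient.mk_surjective t₂'
    refine ⟨t₁, t₂, ?_⟩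
    rw [← Ideal.Quotient.eq_zero_iff_mem, map_sub, map_sub, map_mul, map_mul]
    linear_combination -ht'

/-- The depth of `A` is at least three. -/
theorem three_le_depth [IsLocalRing A] [IsNoetherianRing A] (hJ : J ≠ ⊤) {a b c : A}
    (hm : a ∈ IsLocalRing.maximalIdeal A ∧ b ∈ IsLocalRing.maximalIdeal A ∧ c ∈ IsLocalRing.maximalIdeal A)
    (B : ∀ n, GrBasis J n) (ha : Colon J 0 0 a) (hb : Colon J a 0 b) (hc : Colon J a b c) :
    (3 : ℕ∞) ≤ LocCoh.depth A A := by
  refine H4Depth.length_le_idealDepth (rs := [a, b, c]) ?_ (fun r hr => ?_)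
  · refine ⟨fun i hi => (isSMulRegular_quotient_iff_mem_of_smul_mem _ _).mpr fun x hx => ?_⟩
    simp only [smul_eq_mul, ← Ideal.one_eq_top, mul_one] at hx ⊢
    match i, hi with
    | 0, _ =>
      simp only [List.take, Ideal.ofList_nil, List.getElem_cons_zero, Ideal.mem_bot] at hx ⊢
      refine (Ideal.mem_bot).mp (mem_of_forall_mem_sup_pow hJ ⊥ fun n => ?_)
      rw [bot_sup_eq]
      exact mem_pow_of_mul_mem J B ha n x (hx ▸ zero_mem _)
    | 1, _ =>
      simp only [List.take, Ideal.ofList_singleton, List.getElem_cons_succ, List.getElem_cons_zero] at hx ⊢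
      obtain ⟨s, hs⟩ := Ideal.mem_span_singleton'.mp hx
      refine mem_of_forall_mem_sup_pow hJ _ fun n => ?_
      obtain ⟨t₁, t₂, h⟩ := colon_pow₂ J B ha hb n x s 0 (by simp [← hs, mul_comm])
      exact Submodule.mem_sup.mpr ⟨a * t₁, Ideal.mem_span_singleton'.mpr ⟨t₁, mul_comm _ _⟩, x - a * t₁,
        by simpa using h, by ring⟩
    | 2, _ =>
      simp only [List.take, List.getElem_cons_succ, List.getElem_cons_zero] at hx ⊢
      have hpair : Ideal.ofList [a, b] = Ideal.span {a, b} := by simp [Ideal.ofList_cons, Ideal.span_insert]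
      rw [hpair] at hx ⊢
      obtain ⟨s, r, hs⟩ := Ideal.mem_span_pair.mp hx
      refine mem_of_forall_mem_sup_pow hJ _ fun n => ?_
      obtain ⟨t₁, t₂, h⟩ := colon_pow₃ J B ha hb hc n x s r (by simp [← hs]; ring_nf; exact zero_mem _)
      exact Submodule.mem_sup.mpr ⟨t₁ * a + t₂ * b, Ideal.mem_span_pair.mpr ⟨t₁, t₂, rfl⟩, x - a * t₁ - b * t₂,
        h, by ring⟩
  · simp only [List.mem_cons, List.not_mem_nil, or_false] at hr
    rcases hr with rfl | rfl | rfl
    exacts [hm.1, hm.2.1, hm.2.2]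

end Groth.Agent.H23Para.Lift
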