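import Groth.Agent.H23Para.Lift.Solve
import Groth.Agent.H23Para.Principal

/-!
# Modules which are locally of rank one off the closed point
-/

set_option autoImplicit false
set_option linter.style.haveILetI false

noncomputable section

universe u v

open Groth.Agent.H11Tilde

namespace Groth.Agent.H23Para.Lift

section

variable (A : Type u) [CommRing A] [IsLocalRing A] (M : Type v) [AddCommGroup M] [Module A M]

/-- Locally free of rank one off the closed point, in terms of functionals. -/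
def LocTriv : Prop :=
  ∀ p : PrimeSpectrum A, p ≠ IsLocalRing.closedPoint A → ∃ (y : M →ₗ[A] A) (x : M),
    y x ∉ p.asIdeal ∧ ∀ z, y x • z = y z • x

variable {A M}

theorem genOn_of_eq {y : M →ₗ[A] A} {x : M} (h : ∀ z, y x • z = y z • x) (f : A) : GenOn (f * y x) x := by
  refine ⟨fun z => ⟨1, f * y z, by rw [pow_one, mul_smul, h, smul_smul]⟩, fun a ha => ⟨1, ?_⟩⟩
  have := congrArg y ha
  rw [map_smul, map_zero, smul_eq_mul] at this
  rw [pow_one, mul_assoc, mul_comm (y x), this, mul_zero]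

theorem locTriv_of_genOn [IsNoetherianRing A] [Module.Finite A M]
    (h : ∀ p : PrimeSpectrum A, p ≠ IsLocalRing.closedPoint A → ∃ (b : A) (m : M), b ∉ p.asIdeal ∧ GenOn b m) :
    LocTriv A M := by
  classical
  intro p hp
  obtain ⟨b, m, hb, hgen⟩ := h p hp
  let T : Ideal A :=
    { carrier := {a | ∃ k, b ^ k * a = 0}
      zero_mem' := ⟨0, by simp⟩
      add_mem' := fun {a a'} ⟨k, hk⟩ ⟨k', hk'⟩ => ⟨k + k', by
        rw [mul_add, pow_add, mul_right_comm, hk, zero_mul, mul_assoc, hk', mul_zero, add_zero]⟩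
      smul_mem' := fun r a ⟨k, hk⟩ => ⟨k, by rw [smul_eq_mul, mul_left_comm, hk, mul_zero]⟩ }
  obtain ⟨S, hS⟩ := (IsNoetherian.noetherian T)
  choose! k hk using fun a (ha : a ∈ T) => ha
  let K := S.sup k
  have hT : ∀ a ∈ T, b ^ K * a = 0 := by
    intro a ha
    rw [← hS] at ha
    induction ha using Submodule.span_induction with
    | mem a ha =>
      obtain ⟨c, hc⟩ := pow_dvd_pow b (Finset.le_sup (f := k) (Finset.mem_coe.mp ha))
      show b ^ K * a = 0
      rw [hc, mul_right_comm, hk a (hS ▸ Submodule.subset_span ha), zero_mul]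
    | zero => simp
    | add a a' _ _ h h' => rw [mul_add, h, h', add_zero]
    | smul r a _ h => rw [smul_eq_mul, mul_left_comm, h, mul_zero]
  obtain ⟨G, hG⟩ := Module.Finite.fg_top (R := A) (M := M)
  choose j a ha using fun q => hgen.1 q
  let J := G.sup j
  have hJ : ∀ z : M, ∃ a' : A, b ^ J • z = a' • m := by
    intro z
    have hz : z ∈ Submodule.span A (G : Set M) := hG.symm ▸ trivial
    induction hz using Submodule.span_induction with
    | mem z hz =>
      obtain ⟨c, hc⟩ := pow_dvd_pow b (Finset.le_sup (f := j) (Finset.mem_coe.mp hz))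
      exact ⟨c * a z, by rw [hc, mul_comm, mul_smul, ha, smul_smul]⟩
    | zero => exact ⟨0, by simp⟩
    | add z z' _ _ h h' =>
      obtain ⟨c, hc⟩ := h
      obtain ⟨c', hc'⟩ := h'
      exact ⟨c + c', by rw [smul_add, hc, hc', add_smul]⟩
    | smul r z _ h =>
      obtain ⟨c, hc⟩ := h
      exact ⟨r * c, by rw [smul_comm, hc, smul_smul]⟩
  choose a' ha' using hJ
  have huniq : ∀ c c' : A, c • m = c' • m → b ^ K * c = b ^ K * c' := fun c c' h => by
    rw [← sub_eq_zero, ← mul_sub]
    exact hT _ (hgen.2 _ (by rw [sub_smul, h, sub_self]))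
  let y : M →ₗ[A] A :=
    { toFun := fun z => b ^ K * a' z
      map_add' := fun z z' => by
        rw [← mul_add]
        exact huniq _ _ (by rw [← ha', smul_add, add_smul, ha', ha'])
      map_smul' := fun r z => by
        rw [RingHom.id_apply, smul_eq_mul, mul_left_comm]
        exact huniq _ _ (by rw [← ha', smul_comm, ha', smul_smul]) }
  have hy : y m = b ^ (K + J) := by
    rw [pow_add]
    exact huniq _ _ (ha' m).symm
  refine ⟨y, m, hy ▸ fun hmem => hb (p.isPrime.mem_of_pow_mem _ hmem), fun z => ?_⟩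
  rw [hy, pow_add, mul_smul, ha', smul_smul]
  rfl

variable [IsNoetherianRing A]

/-- A functional surjective off the closed point freely generates all functionals with values in a ring of
depth two. -/
theorem exists_eq_smul_of_surjective {J : Ideal A} (hM : LocTriv A M) {a b : A}
    (hma : a ∈ IsLocalRing.maximalIdeal A) (hmb : b ∈ IsLocalRing.maximalIdeal A)
    (ha : Colon J 0 0 a) (hb : Colon J a 0 b) (δ : M →ₗ[A] A ⧸ J)
    (hδ : ∀ p : PrimeSpectrum A, p ≠ IsLocalRing.closedPoint A → J ≤ p.asIdeal →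
      ∃ z t, δ z = Ideal.Quotient.mk J t ∧ t ∉ p.asIdeal) :
    (∀ ψ : M →ₗ[A] A ⧸ J, ∃ t : A, ψ = t • δ) ∧ ∀ t : A, t • δ = 0 → t ∈ J := by
  let π := Ideal.Quotient.mk J
  have hreg : IsSMulRegular (A ⧸ J) (π a) := by
    refine isSMulRegular_iff_right_eq_zero_of_smul.mpr fun x hx => ?_
    obtain ⟨t, rfl⟩ := Ideal.Quotient.mk_surjective x
    obtain ⟨t₁, t₂, h⟩ := ha t 0 0 (by simpa [π, smul_eq_mul, ← map_mul, Ideal.Quotient.eq_zero_iff_mem] using hx)
    exact Ideal.Quotient.eq_zero_iff_mem.mpr (by simpa using h)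
  have hb' : ∀ x, π a ∣ π b * x → π a ∣ x := by
    intro x ⟨q, hq⟩
    obtain ⟨t, rfl⟩ := Ideal.Quotient.mk_surjective x
    obtain ⟨s, rfl⟩ := Ideal.Quotient.mk_surjective q
    obtain ⟨t₁, t₂, h⟩ := hb t s 0 (by simpa [π, ← map_mul, Ideal.Quotient.eq] using hq)
    exact ⟨π t₁, by simpa [π, ← map_mul, Ideal.Quotient.eq] using h⟩
  obtain ⟨k, hk⟩ := exists_pow_le (J ⊔ ((LinearMap.range δ).comap (Submodule.mkQ J))) fun p hp => by
    by_cases hJp : J ≤ p.asIdeal
    · obtain ⟨z, t, hz, ht⟩ := hδ p hp hJp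
      exact ⟨t, Submodule.mem_sup_right ⟨z, hz⟩, ht⟩
    · obtain ⟨e, he, he'⟩ := Set.not_subset.mp hJp
      exact ⟨e, Submodule.mem_sup_left he, he'⟩
  have hrange : ∀ e ∈ IsLocalRing.maximalIdeal A, ∃ z, δ z = π e ^ k := fun e he => by
    obtain ⟨x, hx, y, ⟨z, hz⟩, hxy⟩ := Submodule.mem_sup.mp (hk (Ideal.pow_mem_pow he k))
    refine ⟨z, hz.trans ?_⟩
    rw [← map_pow, ← hxy, map_add, Ideal.Quotient.eq_zero_iff_mem.mpr hx, zero_add]
    rfl
  constructor
  · intro ψ
    have hsym : ∀ z w, δ z * ψ w = δ w * ψ z := by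
      intro z w
      let D := δ z * ψ w - δ w * ψ z
      obtain ⟨N, hN⟩ := exists_pow_le (LinearMap.ker (LinearMap.toSpanSingleton A (A ⧸ J) D)) fun p hp => by
        obtain ⟨y, x, hy, hz⟩ := hM p hp
        refine ⟨y x * y x, ?_, p.isPrime.mul_notMem hy hy⟩
        have h1 : ∀ (f : M →ₗ[A] A ⧸ J) (z : M), π (y x) * f z = π (y z) * f x := fun f z => by
          have := congrArg f (hz z)
          rw [map_smul, map_smul] at this
          exact this
        rw [LinearMap.mem_ker, LinearMap.toSpanSingleton_apply]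
        show π (y x * y x) * D = 0
        rw [map_mul]
        linear_combination (π (y x) * ψ w) * h1 δ z + (π (y z) * δ x) * h1 ψ w -
          (π (y x) * ψ z) * h1 δ w - (π (y w) * δ x) * h1 ψ z
      have h2 : (π a) ^ N * D = 0 := by
        rw [← map_pow]
        exact hN (Ideal.pow_mem_pow hma N)
      exact sub_eq_zero.mp ((hreg.pow N).right_eq_zero_of_smul h2)
    obtain ⟨za, hza⟩ := hrange a hma
    obtain ⟨zb, hzb⟩ := hrange b hmb
    obtain ⟨t', ht'⟩ := dvd_of_dvd_pow_mul hreg hb' k (ψ za) k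
      ⟨ψ zb, by rw [← hza, ← hzb, hsym]⟩
    obtain ⟨t, rfl⟩ := Ideal.Quotient.mk_surjective t'
    refine ⟨t, LinearMap.ext fun z => (hreg.pow k) ?_⟩
    show π a ^ k * ψ z = π a ^ k * (π t * δ z)
    rw [← hza, hsym, ht', hza]
    ring
  · intro t ht
    obtain ⟨za, hza⟩ := hrange a hma
    refine Ideal.Quotient.eq_zero_iff_mem.mp ((hreg.pow k).right_eq_zero_of_smul ?_)
    show π a ^ k * π t = 0
    have h0 : π t * δ za = 0 := LinearMap.congr_fun ht za
    rw [← hza, mul_comm]
    exact h0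

/-- A functional surjective off the closed point from one modulo `J`. -/
theorem exists_functional_of_quotient [Module.Finite A M] {J : Ideal A} (hJ : J ≠ ⊤)
    [IsLocalRing (A ⧸ J)] (hd : (3 : ℕ∞) ≤ LocCoh.depth (A ⧸ J) (A ⧸ J)) (B : ∀ n, GrBasis J n) (hM : LocTriv A M)
    (δ : M →ₗ[A] A ⧸ J)
    (hδ : ∀ p : PrimeSpectrum A, p ≠ IsLocalRing.closedPoint A → J ≤ p.asIdeal →
      ∃ z t, δ z = Ideal.Quotient.mk J t ∧ t ∉ p.asIdeal) :
    ∃ y : M →ₗ[A] A, ∀ p : PrimeSpectrum A, p ≠ IsLocalRing.closedPoint A → ∃ z, y z ∉ p.asIdeal := by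
  obtain ⟨a, b, c, hma, hmb, hmc, ha, hb, hc⟩ := exists_colon hJ hd
  obtain ⟨huniq, hinj⟩ := exists_eq_smul_of_surjective hM hma hmb ha hb δ hδ
  obtain ⟨g, π, hπ⟩ := Module.Finite.exists_fin' A M
  obtain ⟨s, ρ, hρ⟩ := Submodule.fg_iff_exists_fin_generating_family.mp (IsNoetherian.noetherian (LinearMap.ker π))
  let T : (Fin g → A) →ₗ[A] (Fin s → A) :=
    { toFun := fun v j => ρ j ⬝ᵥ v
      map_add' := fun v w => funext fun j => dotProduct_add _ _ _
      map_smul' := fun r v => funext fun j => dotProduct_smul _ _ _ }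
  have hT : ∀ (v : Fin g → A) (j : Fin s), T v j = ρ j ⬝ᵥ v := fun _ _ => rfl
  have hdot : ∀ {N : Type u} [AddCommGroup N] [Module A N] (l : (Fin g → A) →ₗ[A] N) (x : Fin g → A),
      l x = ∑ i, x i • l (Pi.single i 1) := fun l x => by
    conv_lhs => rw [pi_eq_sum_univ' x]
    rw [map_sum]
    exact Finset.sum_congr rfl fun i _ => map_smul _ _ _
  have hker : ∀ (I : Ideal A) (v : Fin g → A), v ∈ Sol T I → ∀ r ∈ LinearMap.ker π, r ⬝ᵥ v ∈ I := by
    intro I v hv r hr
    rw [← hρ] at hr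
    induction hr using Submodule.span_induction with
    | mem r hr => obtain ⟨j, rfl⟩ := hr; exact hv j trivial
    | zero => simp
    | add r r' _ _ h h' => rw [add_dotProduct]; exact add_mem h h'
    | smul t r _ h => rw [smul_dotProduct]; exact I.mul_mem_left _ h
  have hvec : ∀ (y : M →ₗ[A] A) (x : Fin g → A), x ⬝ᵥ (fun i => y (π (Pi.single i 1))) = y (π x) := fun y x =>
    (hdot (y.comp π) x).symm
  have hzero : ∀ y : M →ₗ[A] A, T (fun i => y (π (Pi.single i 1))) = 0 := fun y => funext fun j => by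
    rw [hT, hvec, show π (ρ j) = 0 from (hρ ▸ Submodule.subset_span ⟨j, rfl⟩ : ρ j ∈ LinearMap.ker π), map_zero]
    rfl
  have hU : LocRankOne T := by
    intro p hp
    obtain ⟨y, x, hy, hz⟩ := hM p hp
    obtain ⟨x, rfl⟩ := hπ x
    refine ⟨fun i => y (π (Pi.single i 1)), x, hzero y, by rwa [hvec], fun I v hv i _ => ?_⟩
    have := hker I v hv (y (π x) • Pi.single i 1 - y (π (Pi.single i 1)) • x) (by
      rw [LinearMap.mem_ker, map_sub, map_smul, map_smul, hz, sub_self])
    rw [sub_dotProduct, smul_dotProduct, smul_dotProduct, single_one_dotProduct] at this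
    simpa [hvec, mul_comm] using this
  choose φ hφ using fun i => Ideal.Quotient.mk_surjective (δ (π (Pi.single i 1)))
  have hδφ : ∀ r, δ (π r) = Ideal.Quotient.mk J (r ⬝ᵥ φ) := fun r => by
    refine (hdot (δ.comp π) r).trans ?_
    rw [dotProduct, map_sum]
    refine Finset.sum_congr rfl fun i _ => ?_
    rw [LinearMap.comp_apply, ← hφ, map_mul]
    rfl
  let D : Data J T :=
    { hJ := hJ, B := B, a := a, b := b, c := c, hma := hma, hmb := hmb, hmc := hmc, ha := ha, hb := hb, hc := hc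
      hU := hU, φ := φ
      hφ := fun j _ => by
        rw [SetLike.mem_coe, ← Ideal.Quotient.eq_zero_iff_mem, hT, ← hδφ,
          show π (ρ j) = 0 from (hρ ▸ Submodule.subset_span ⟨j, rfl⟩ : ρ j ∈ LinearMap.ker π), map_zero]
      gen := fun v hv => by
        let l : (Fin g → A) →ₗ[A] A ⧸ J :=
          { toFun := fun r => Ideal.Quotient.mk J (r ⬝ᵥ v)
            map_add' := fun r r' => by rw [add_dotProduct, map_add]
            map_smul' := fun t r => by rw [smul_dotProduct, smul_eq_mul, map_mul]; rfl }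
        let e := π.quotKerEquivOfSurjective hπ
        let ψ := ((LinearMap.ker π).liftQ l fun r hr => LinearMap.mem_ker.mpr
          (Ideal.Quotient.eq_zero_iff_mem.mpr (hker J v hv r hr))).comp e.symm.toLinearMap
        have hψ : ∀ r, ψ (π r) = l r := fun r => by
          simp only [ψ, LinearMap.comp_apply, LinearEquiv.coe_coe]
          rw [show e.symm (π r) = Submodule.Quotient.mk r from e.symm_apply_eq.mpr rfl]
          rfl
        obtain ⟨t, ht⟩ := huniq ψ
        refine ⟨t, fun i _ => ?_⟩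
        have h1 := hψ (Pi.single i 1)
        rw [ht, LinearMap.smul_apply, hδφ, single_one_dotProduct] at h1
        rw [SetLike.mem_coe, ← Ideal.Quotient.eq_zero_iff_mem, Pi.sub_apply, map_sub, sub_eq_zero]
        refine Eq.trans ?_ h1.symm |>.trans ?_
        · simp [l]
        · rw [Pi.smul_apply, smul_eq_mul, map_mul]; rfl
      inj := fun t ht => hinj t (LinearMap.ext fun z => by
        obtain ⟨r, rfl⟩ := hπ z
        rw [LinearMap.smul_apply, hδφ, LinearMap.zero_apply]
        show Ideal.Quotient.mk J (t • (r ⬝ᵥ φ)) = 0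
        rw [Ideal.Quotient.eq_zero_iff_mem, ← dotProduct_smul]
        exact Submodule.sum_mem _ fun i _ => J.mul_mem_left _ (ht i trivial)) }
  obtain ⟨y₀, hy₀, hall⟩ := D.exists_solution
  let l₀ : (Fin g → A) →ₗ[A] A :=
    { toFun := fun r => r ⬝ᵥ y₀
      map_add' := fun r r' => add_dotProduct _ _ _
      map_smul' := fun t r => smul_dotProduct _ _ _ }
  let e := π.quotKerEquivOfSurjective hπ
  refine ⟨((LinearMap.ker π).liftQ l₀ fun r hr => LinearMap.mem_ker.mpr (Ideal.mem_bot.mp (hker ⊥ y₀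
    (by rw [Submodule.mem_comap, hy₀]; exact zero_mem _) r hr))).comp e.symm.toLinearMap, fun p hp => ?_⟩
  obtain ⟨x, hx⟩ := hall p hp
  refine ⟨π x, ?_⟩
  simp only [LinearMap.comp_apply, LinearEquiv.coe_coe]
  rw [show e.symm (π x) = Submodule.Quotient.mk x from e.symm_apply_eq.mpr rfl]
  exact hx

end

end Groth.Agent.H23Para.Lift
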