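import Groth.Agent.H23Para.Lift.Colon

/-!
# Lifting a generating solution of a linear system from `A/J` to `A`
-/

set_option autoImplicit false

noncomputable section

universe u

namespace Groth.Agent.H23Para.Lift

variable {A : Type u} [CommRing A] [IsLocalRing A] {J : Ideal A} {g s : ℕ}
  (T : (Fin g → A) →ₗ[A] (Fin s → A))

/-- An ideal contained in no prime other than the maximal ideal contains one of its powers. -/
theorem exists_pow_le [IsNoetherianRing A] (I : Ideal A)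
    (h : ∀ p : PrimeSpectrum A, p ≠ IsLocalRing.closedPoint A → ∃ e ∈ I, e ∉ p.asIdeal) :
    ∃ k, IsLocalRing.maximalIdeal A ^ k ≤ I := by
  refine Ideal.exists_pow_le_of_le_radical_of_fg ?_ (IsNoetherian.noetherian _)
  rw [Ideal.radical_eq_sInf]
  refine le_sInf fun P hP => ?_
  by_contra hne
  obtain ⟨e, he, heP⟩ := h ⟨P, hP.2⟩ fun h => hne (congrArg PrimeSpectrum.asIdeal h).ge
  exact heP (hP.1 he)

/-- Solutions modulo an ideal. -/
abbrev Sol (I : Ideal A) : Submodule A (Fin g → A) := (Submodule.pi Set.univ fun _ => I).comap T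

/-- Vectors with entries in an ideal. -/
abbrev Z {g : ℕ} (I : Ideal A) : Submodule A (Fin g → A) := Submodule.pi Set.univ fun _ => I

omit [IsLocalRing A] in
theorem Z_le_sol (I : Ideal A) : Z I ≤ Sol T I := by
  intro v hv j _
  have hv' : v = ∑ i, v i • (Pi.single i 1 : Fin g → A) := pi_eq_sum_univ' v
  rw [hv', map_sum, Finset.sum_apply]
  exact Submodule.sum_mem _ fun i _ => by
    rw [map_smul, Pi.smul_apply, smul_eq_mul]
    exact I.mul_mem_right _ (hv i trivial)

/-- The system is locally of rank one off the closed point. -/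
def LocRankOne : Prop :=
  ∀ p : PrimeSpectrum A, p ≠ IsLocalRing.closedPoint A → ∃ (y x : Fin g → A), T y = 0 ∧ x ⬝ᵥ y ∉ p.asIdeal ∧
    ∀ (I : Ideal A) (v : Fin g → A), v ∈ Sol T I → (x ⬝ᵥ y) • v - (x ⬝ᵥ v) • y ∈ Z I

/-- The data for lifting. -/
structure Data (J : Ideal A) (T : (Fin g → A) →ₗ[A] (Fin s → A)) where
  hJ : J ≠ ⊤
  B : ∀ n, GrBasis J n
  a : A
  b : A
  c : A
  hma : a ∈ IsLocalRing.maximalIdeal A
  hmb : b ∈ IsLocalRing.maximalIdeal A
  hmc : c ∈ IsLocalRing.maximalIdeal A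
  ha : Colon J 0 0 a
  hb : Colon J a 0 b
  hc : Colon J a b c
  hU : LocRankOne T
  φ : Fin g → A
  hφ : φ ∈ Sol T J
  gen : ∀ v ∈ Sol T J, ∃ t : A, v - t • φ ∈ Z J
  inj : ∀ t : A, t • φ ∈ Z J → t ∈ J

variable {T} (D : Data J T)

include D in
theorem Data.kernel {n : ℕ} {v : Fin g → A} (hv : v ∈ Z (J ^ n)) (hs : v ∈ Sol T (J ^ (n + 1))) :
    ∃ k ∈ J ^ n, v - k • D.φ ∈ Z (J ^ (n + 1)) := by
  let B := D.B n
  choose c hc using fun i => B.span (v i) (hv i trivial)
  let col : Fin B.r → Fin g → A := fun l i => c i l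
  have hz : v - ∑ l, B.el l • col l ∈ Z (J ^ (n + 1)) := fun i _ => by
    simpa [Finset.sum_apply, col, mul_comm] using hc i
  have hcol : ∀ l, col l ∈ Sol T J := fun l j _ => by
    have h1 := (Sol T (J ^ (n + 1))).sub_mem hs (Z_le_sol T _ hz) j trivial
    rw [sub_sub_cancel, map_sum, Finset.sum_apply] at h1
    exact B.indep (fun l => T (col l) j) (by simpa [mul_comm] using h1) l
  choose t ht using fun l => D.gen (col l) (hcol l)
  refine ⟨∑ l, t l * B.el l, Submodule.sum_mem _ fun l _ => (J ^ n).mul_mem_left _ (B.el_mem l), ?_⟩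
  have hz' : ∑ l, B.el l • (col l - t l • D.φ) ∈ Z (J ^ (n + 1)) := fun i _ => by
    rw [Finset.sum_apply]
    exact Submodule.sum_mem _ fun l _ => by
      rw [pow_succ]
      exact Ideal.mul_mem_mul (B.el_mem l) (ht l i trivial)
  convert (Z (J ^ (n + 1))).add_mem hz hz' using 1
  rw [Finset.sum_smul]
  simp only [smul_sub, Finset.sum_sub_distrib, smul_smul]
  rw [Finset.sum_congr rfl fun l _ => congrArg (· • D.φ) (mul_comm (B.el l) (t l))]
  abel

include D in
theorem Data.kernel_inj {n : ℕ} {k : A} (hk : k ∈ J ^ n) (h : k • D.φ ∈ Z (J ^ (n + 1))) : k ∈ J ^ (n + 1) := by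
  let B := D.B n
  obtain ⟨c, hc⟩ := B.span k hk
  have h1 : ∀ l, c l • D.φ ∈ Z J := fun l i _ => by
    refine B.indep (fun l => c l * D.φ i) ?_ l
    have h2 : k * D.φ i - (k - ∑ l, c l * B.el l) * D.φ i ∈ J ^ (n + 1) :=
      (J ^ (n + 1)).sub_mem (h i trivial) ((J ^ (n + 1)).mul_mem_right _ hc)
    convert h2 using 1
    rw [sub_mul, sub_sub_cancel, Finset.sum_mul]
    exact Finset.sum_congr rfl fun l _ => by ring
  have h3 : ∑ l, c l * B.el l ∈ J ^ (n + 1) :=
    Submodule.sum_mem _ fun l _ => by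
      rw [pow_succ']
      exact Ideal.mul_mem_mul (D.inj _ (h1 l)) (B.el_mem l)
  simpa using (J ^ (n + 1)).add_mem hc h3

include D in
theorem Data.lift [IsNoetherianRing A] (n : ℕ) {ψ : Fin g → A} (hψ : ψ ∈ Sol T (J ^ n)) :
    ∃ ψ' ∈ Sol T (J ^ (n + 1)), ψ' - ψ ∈ Z (J ^ n) := by
  let I : Ideal A :=
    { carrier := {e | ∃ ψ' ∈ Sol T (J ^ (n + 1)), ψ' - e • ψ ∈ Z (J ^ n)}
      zero_mem' := ⟨0, zero_mem _, by simp⟩
      add_mem' := fun {e₁ e₂} h₁ h₂ => by
        obtain ⟨f₁, h₁, h₁'⟩ := h₁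
        obtain ⟨f₂, h₂, h₂'⟩ := h₂
        exact ⟨f₁ + f₂, add_mem h₁ h₂, by convert add_mem h₁' h₂' using 1; rw [add_smul]; abel⟩
      smul_mem' := fun r e h => by
        obtain ⟨f, h, h'⟩ := h
        exact ⟨r • f, Submodule.smul_mem _ r h, by
          convert Submodule.smul_mem _ r h' using 1; rw [smul_sub, smul_smul, smul_eq_mul]⟩ }
  obtain ⟨k, hk⟩ := exists_pow_le I fun p hp => by
    obtain ⟨y, x, hy, he, hloc⟩ := D.hU p hp
    refine ⟨x ⬝ᵥ y, ⟨(x ⬝ᵥ ψ) • y, ?_, ?_⟩, he⟩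
    · rw [Submodule.mem_comap, map_smul, hy, smul_zero]
      exact zero_mem _
    · rw [← neg_sub]
      exact neg_mem (hloc _ ψ hψ)
  have hdown : ∀ (j : ℕ) (e : A), e ∈ IsLocalRing.maximalIdeal A ^ (k - j) → e ∈ I := by
    intro j
    induction j with
    | zero => exact fun e he => hk he
    | succ j ih =>
      intro e he
      have hmul : ∀ x ∈ IsLocalRing.maximalIdeal A, x * e ∈ I := fun x hx => by
        refine ih _ (Ideal.pow_le_pow_right (show k - j ≤ k - (j + 1) + 1 by omega) ?_)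
        rw [pow_succ']
        exact Ideal.mul_mem_mul hx he
      obtain ⟨α, hα, hα'⟩ := hmul _ D.hma
      obtain ⟨β, hβ, hβ'⟩ := hmul _ D.hmb
      obtain ⟨δ, hδ, hδ'⟩ := hmul _ D.hmc
      have hw : ∀ (x y : A) (f f' : Fin g → A), f - (x * e) • ψ ∈ Z (J ^ n) → f' - (y * e) • ψ ∈ Z (J ^ n) →
          y • f - x • f' ∈ Z (J ^ n) := fun x y f f' h h' => by
        convert sub_mem (Submodule.smul_mem _ y h) (Submodule.smul_mem _ x h') using 1
        rw [smul_sub, smul_sub, smul_smul, smul_smul, show y * (x * e) = x * (y * e) by ring]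
        abel
      obtain ⟨k₁, hk₁, hk₁'⟩ := D.kernel (hw _ _ _ _ hα' hβ')
        (sub_mem (Submodule.smul_mem _ _ hα) (Submodule.smul_mem _ _ hβ))
      obtain ⟨k₂, hk₂, hk₂'⟩ := D.kernel (hw _ _ _ _ hα' hδ')
        (sub_mem (Submodule.smul_mem _ _ hα) (Submodule.smul_mem _ _ hδ))
      obtain ⟨k₃, hk₃, hk₃'⟩ := D.kernel (hw _ _ _ _ hβ' hδ')
        (sub_mem (Submodule.smul_mem _ _ hβ) (Submodule.smul_mem _ _ hδ))
      have hsum : D.c * k₁ - D.a * (-k₃) - D.b * k₂ ∈ J ^ (n + 1) := by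
        refine D.kernel_inj ((J ^ n).sub_mem ((J ^ n).sub_mem ((J ^ n).mul_mem_left _ hk₁)
          ((J ^ n).mul_mem_left _ (neg_mem hk₃))) ((J ^ n).mul_mem_left _ hk₂)) ?_
        convert neg_mem (add_mem (sub_mem (Submodule.smul_mem _ D.c hk₁') (Submodule.smul_mem _ D.b hk₂'))
          (Submodule.smul_mem _ D.a hk₃')) using 1
        funext i
        simp only [Pi.smul_apply, Pi.sub_apply, Pi.add_apply, Pi.neg_apply, smul_eq_mul]
        ring
      obtain ⟨v₁, hv₁, v₂, hv₂, hv⟩ := step J D.hc (D.B n) hk₁ (neg_mem hk₃) hk₂ hsum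
      have hphi : ∀ v ∈ J ^ n, v • D.φ ∈ Sol T (J ^ (n + 1)) := fun v hv j _ => by
        rw [map_smul, Pi.smul_apply, smul_eq_mul, pow_succ]
        exact Ideal.mul_mem_mul hv (D.hφ j trivial)
      let α' := α - v₂ • D.φ
      let β' := β + v₁ • D.φ
      have hdiv : ∀ i, ∃ γ : A, α' i - D.a * γ ∈ J ^ (n + 1) := fun i => by
        obtain ⟨t₁, t₂, ht⟩ := colon_pow₂ J D.B D.ha D.hb (n + 1) (α' i) (β' i) 0 (by
          convert (J ^ (n + 1)).add_mem (hk₁' i trivial) ((J ^ (n + 1)).mul_mem_right (D.φ i) hv) using 1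
          simp only [α', β', Pi.smul_apply, Pi.sub_apply, Pi.add_apply, smul_eq_mul]
          ring)
        exact ⟨t₁, by simpa using ht⟩
      choose γ hγ using hdiv
      have hα'S : α' ∈ Sol T (J ^ (n + 1)) := sub_mem hα (hphi _ hv₂)
      refine ⟨γ, fun j _ => ?_, fun i _ => ?_⟩
      · refine mem_pow_of_mul_mem J D.B D.ha _ _ ?_
        have hz : α' - D.a • γ ∈ Z (J ^ (n + 1)) := fun i _ => hγ i
        have h1 := sub_mem hα'S (Z_le_sol T _ hz) j trivial
        rwa [sub_sub_cancel, map_smul] at h1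
      · refine mem_pow_of_mul_mem J D.B D.ha _ _ ?_
        convert (J ^ n).sub_mem ((J ^ n).sub_mem (hα' i trivial) ((J ^ n).mul_mem_right (D.φ i) hv₂))
          (Ideal.pow_le_pow_right n.le_succ (hγ i)) using 1
        simp only [α', Pi.smul_apply, Pi.sub_apply, smul_eq_mul]
        ring
  obtain ⟨ψ', h, h'⟩ := hdown k 1 (by simp)
  exact ⟨ψ', h, by simpa using h'⟩

include D in
/-- There is a solution which generates all solutions off the closed point. -/
theorem Data.exists_solution [IsNoetherianRing A] : ∃ y₀ : Fin g → A, T y₀ = 0 ∧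
    ∀ p : PrimeSpectrum A, p ≠ IsLocalRing.closedPoint A → ∃ x : Fin g → A, x ⬝ᵥ y₀ ∉ p.asIdeal := by
  have hseq : ∀ n : ℕ, ∃ v ∈ Sol T (J ^ (n + 1)), v - D.φ ∈ Z J := by
    intro n
    induction n with
    | zero => exact ⟨D.φ, by rw [zero_add, pow_one]; exact D.hφ, by simp⟩
    | succ n ih =>
      obtain ⟨v, hv, hv'⟩ := ih
      obtain ⟨w, hw, hw'⟩ := D.lift (n + 1) hv
      refine ⟨w, hw, ?_⟩
      have hz : w - v ∈ Z J := fun i _ => Ideal.pow_le_self n.succ_ne_zero (hw' i trivial)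
      convert add_mem hz hv' using 1
      abel
  obtain ⟨k, hk⟩ := J.exists_pow_inf_eq_pow_smul (LinearMap.range T)
  obtain ⟨v, hv, hv'⟩ := hseq k
  have hTv : T v ∈ J • LinearMap.range T := by
    have hpi : T v ∈ J ^ (k + 1) • (⊤ : Submodule A (Fin s → A)) := by
      have hT' : T v = ∑ j, T v j • (Pi.single j 1 : Fin s → A) := pi_eq_sum_univ' _
      rw [hT']
      exact Submodule.sum_mem _ fun j _ => Submodule.smul_mem_smul (hv j trivial) trivial
    have := (hk (k + 1) k.le_succ).le ⟨hpi, LinearMap.mem_range_self T v⟩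
    rw [Nat.add_sub_cancel_left, pow_one] at this
    exact Submodule.smul_mono le_rfl inf_le_right this
  rw [LinearMap.range_eq_map, ← Submodule.map_smul''] at hTv
  obtain ⟨w, hw, hTw⟩ := hTv
  have hwZ : w ∈ Z J := fun i _ => by
    refine Submodule.smul_induction_on hw (fun r hr x _ => ?_) (fun x y hx hy => ?_)
    · simpa using J.mul_mem_right (x i) hr
    · exact add_mem hx hy
  refine ⟨v - w, by rw [map_sub, hTw, sub_self], ?_⟩
  let y₀ := v - w
  have hy₀ : y₀ - D.φ ∈ Z J := by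
    convert sub_mem hv' hwZ using 1
    simp only [y₀]
    abel
  have hT₀ : T y₀ = 0 := by rw [map_sub, hTw, sub_self]
  have hall : ∀ (n : ℕ) (y : Fin g → A), y ∈ Sol T (J ^ n) → ∃ t : A, y - t • y₀ ∈ Z (J ^ n) := by
    intro n
    induction n with
    | zero => exact fun y _ => ⟨0, by simp [Z]⟩
    | succ n ih =>
      intro y hy
      obtain ⟨t, ht⟩ := ih y fun j _ => Ideal.pow_le_pow_right n.le_succ (hy j trivial)
      obtain ⟨k, hk, hk'⟩ := D.kernel ht (sub_mem hy (by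
        rw [Submodule.mem_comap, map_smul, hT₀, smul_zero]
        exact zero_mem _))
      refine ⟨t + k, fun i _ => ?_⟩
      show (y - (t + k) • y₀) i ∈ J ^ (n + 1)
      have h1 : k * (y₀ i - D.φ i) ∈ J ^ (n + 1) := by
        rw [pow_succ]
        exact Ideal.mul_mem_mul hk (hy₀ i trivial)
      convert (J ^ (n + 1)).sub_mem (hk' i trivial) h1 using 1
      simp only [Pi.smul_apply, Pi.sub_apply, smul_eq_mul]
      ring
  intro p hp
  obtain ⟨y, x, hy, he, -⟩ := D.hU p hp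
  refine ⟨x, fun hmem => he ?_⟩
  refine (Ideal.span_singleton_le_iff_mem p.asIdeal).mpr hmem (mem_of_forall_mem_sup_pow D.hJ _ fun n => ?_)
  obtain ⟨t, ht⟩ := hall n y (by rw [Submodule.mem_comap, hy]; exact zero_mem _)
  refine Submodule.mem_sup.mpr ⟨t * x ⬝ᵥ y₀, Ideal.mem_span_singleton'.mpr ⟨t, rfl⟩, x ⬝ᵥ (y - t • y₀), ?_, by
    simp [y₀, dotProduct_sub, dotProduct_smul]⟩
  exact Submodule.sum_mem _ fun i _ => (J ^ n).mul_mem_left _ (ht i trivial)

end Groth.Agent.H23Para.Lift
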