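import Groth.Agent.H23Para.Lift.Punctured
import Groth.Agent.H11Tilde.ProjUPUnique

/-!
# Invertible modules on a punctured spectrum trivial on a closed subscheme
-/

set_option autoImplicit false
set_option linter.style.haveILetI false

noncomputable section

universe u

open CategoryTheory CategoryTheory.Limits AlgebraicGeometry Opposite TopologicalSpace
open Groth.Agent.H11Tilde

namespace Groth.Agent.H23Para.Lift

variable {A : Type u} [CommRing A] [IsLocalRing A]

/-- The closed subscheme of the punctured spectrum cut out by an ideal is a base change. -/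
theorem exists_isPullback_subschemeι (J : Ideal A) :
    ∃ k : ((Spec.map (CommRingCat.ofHom (Ideal.Quotient.mk J))).ker.comap (FEt.puncturedSpec A).ι).subscheme ⟶
        Spec (CommRingCat.of (A ⧸ J)),
      IsPullback ((Spec.map (CommRingCat.ofHom (Ideal.Quotient.mk J))).ker.comap (FEt.puncturedSpec A).ι).subschemeι k
        (FEt.puncturedSpec A).ι (Spec.map (CommRingCat.ofHom (Ideal.Quotient.mk J))) := by
  let f := Spec.map (CommRingCat.ofHom (Ideal.Quotient.mk J))
  haveI : IsClosedImmersion f := IsClosedImmersion.spec_of_surjective _ Ideal.Quotient.mk_surjective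
  let ι := (FEt.puncturedSpec A).ι
  let e := f.ker.comapIso ι
  refine ⟨e.hom ≫ pullback.snd _ _ ≫ inv f.toImage, ?_⟩
  refine (IsPullback.of_hasPullback ι f.ker.subschemeι).of_iso e.symm (Iso.refl _) (asIso f.toImage).symm (Iso.refl _)
    ?_ ?_ ?_ ?_
  · simp [e, ι, f]
  · simp only [Iso.symm_hom, asIso_inv, Iso.inv_hom_id_assoc]
  · simp [ι]
  · show f.ker.subschemeι ≫ 𝟙 _ = inv f.toImage ≫ f
    rw [Category.comp_id, IsIso.eq_inv_comp]
    exact f.toImage_imageι

variable [IsNoetherianRing A]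

/-- An invertible module on the punctured spectrum is trivial if it is so modulo an ideal with free graded
pieces and quotient of depth three. -/
theorem iso_of_trivial_modulo (J : Ideal A) (hJ : J ≠ ⊤) [IsLocalRing (A ⧸ J)]
    (hd : (3 : ℕ∞) ≤ LocCoh.depth (A ⧸ J) (A ⧸ J)) (B : ∀ n, GrBasis J n) {Y : Scheme.{u}}
    {i : Y ⟶ ((FEt.puncturedSpec A : (Spec (CommRingCat.of A)).Opens) : Scheme.{u})}
    {k : Y ⟶ Spec (CommRingCat.of (A ⧸ J))}
    (hY : IsPullback i k (FEt.puncturedSpec A).ι (Spec.map (CommRingCat.ofHom (Ideal.Quotient.mk J))))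
    (L : ((FEt.puncturedSpec A : (Spec (CommRingCat.of A)).Opens) : Scheme.{u}).Modules)
    (hL : PicF.IsInvertible L) (htriv : Nonempty ((Scheme.Modules.pullback i).obj L ≅ Coh.structureModule Y)) :
    Nonempty (L ≅ Coh.structureModule _) := by
  classical
  let π := Ideal.Quotient.mk J
  let f := Spec.map (CommRingCat.ofHom π)
  let U : (Spec (CommRingCat.of A)).Opens := FEt.puncturedSpec A
  let U₀ : (Spec (CommRingCat.of (A ⧸ J))).Opens := FEt.puncturedSpec (A ⧸ J)
  haveI : IsOpenImmersion k := MorphismProperty.of_isPullback hY (inferInstanceAs (IsOpenImmersion U.ι))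
  haveI : IsLocalHom π := .of_surjective π Ideal.Quotient.mk_surjective
  have hrange : Set.range k = Set.range U₀.ι := by
    have hr : ∀ x, x ∈ Set.range k ↔ f x ∈ U := fun x => by
      refine ⟨?_, fun h => ?_⟩
      · rintro ⟨y, rfl⟩
        rw [← Scheme.Hom.comp_apply, ← hY.w]
        exact (i y).2
      · obtain ⟨y, -, hy⟩ := Scheme.exists_preimage_of_isPullback hY ⟨f x, h⟩ x rfl
        exact ⟨y, hy⟩
    rw [Scheme.Opens.range_ι]
    ext x
    refine (hr x).trans (not_congr ⟨fun h => PrimeSpectrum.ext ?_, fun h => ?_⟩)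
    · have h' : x.asIdeal.comap π = IsLocalRing.maximalIdeal A := congrArg PrimeSpectrum.asIdeal h
      rw [← Ideal.map_comap_of_surjective π Ideal.Quotient.mk_surjective x.asIdeal, h']
      exact IsLocalRing.map_maximalIdeal_of_surjective π Ideal.Quotient.mk_surjective
    · obtain rfl : x = IsLocalRing.closedPoint (A ⧸ J) := h
      exact PrimeSpectrum.ext (IsLocalRing.maximalIdeal_comap π)
  have hkO : Function.Bijective k.appTop := by
    let j := IsOpenImmersion.isoOfRangeEq k U₀.ι hrange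
    have hj : j.hom ≫ U₀.ι = k := IsOpenImmersion.isoOfRangeEq_hom_fac _ _ hrange
    have hU : Function.Bijective U₀.ι.appTop := by
      rw [Scheme.Opens.ι_appTop]
      exact (bijective_map_congr (Coh.structureModule _) (Scheme.Opens.ι_image_top U₀).symm rfl le_top le_top).mp
        (bijective_punctured_iff.mpr (le_trans (by norm_num) hd))
    haveI : IsIso j.hom.appTop := inferInstanceAs (IsIso (j.hom.app ⊤))
    rw [← hj, Scheme.Hom.comp_appTop]
    exact (ConcreteCategory.bijective_of_isIso j.hom.appTop).comp hU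
  obtain ⟨e⟩ := htriv
  let L' := (Scheme.Modules.pullback i).obj L
  let s : Γ(L', ⊤) := e.inv.app ⊤ (1 : Γ(Y, ⊤))
  have hs : Function.Bijective fun r : Γ(Y, ⊤) => r • s := by
    refine Eq.mpr (congrArg Function.Bijective (funext fun r => ?_))
      (ConcreteCategory.bijective_of_isIso (e.inv.app ⊤))
    exact (Scheme.Modules.Hom.app_smul e.inv r (1 : Γ(Y, ⊤))).symm.trans (congrArg _ (mul_one r))
  let ψ : A ⧸ J → Γ(L', ⊤) := fun c => k.appTop ((Scheme.ΓSpecIso _).inv c) • s
  have hψ : Function.Bijective ψ :=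
    hs.comp (hkO.comp (ConcreteCategory.bijective_of_isIso (Scheme.ΓSpecIso (CommRingCat.of (A ⧸ J))).inv))
  refine iso_of_functional (R := CommRingCat.of A) L hL fun S _ hS hgen => ?_
  let pull : S → Γ(L', ⊤) := fun z => OmegaSh.pullSect i L ⊤ z.1
  choose δ₀ hδ₀ using fun z => hψ.2 (pull z)
  have hψadd : ∀ a b, ψ (a + b) = ψ a + ψ b := fun a b => by simp [ψ, map_add, add_smul]
  have hψsmul : ∀ (a : A) b, ψ (a • b) = i.appTop (U.ι.appTop ((Scheme.ΓSpecIso (CommRingCat.of A)).inv a)) • ψ b := by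
    intro a b
    show k.appTop ((Scheme.ΓSpecIso _).inv (π a * b)) • s = _ • (_ • s)
    rw [map_mul, map_mul, mul_smul]
    congr 1
    have h1 := congrArg (fun φ => φ.appTop ((Scheme.ΓSpecIso (CommRingCat.of A)).inv a)) hY.w
    simp only [Scheme.Hom.comp_appTop, CommRingCat.comp_apply] at h1
    rw [h1]
    congr 1
    exact CategoryTheory.congr_fun (Scheme.ΓSpecIso_inv_naturality (CommRingCat.ofHom π)) a
  let δ : S →ₗ[A] A ⧸ J :=
    { toFun := δ₀
      map_add' := fun z w => hψ.1 (by
        rw [hψadd, hδ₀, hδ₀, hδ₀]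
        exact map_add ((((Scheme.Modules.pullbackPushforwardAdjunction i).unit.app L).app ⊤).hom) z.1 w.1)
      map_smul' := fun a z => hψ.1 (by
        rw [RingHom.id_apply, hψsmul, hδ₀, hδ₀]
        exact OmegaSh.pullSect_smul i L ⊤ _ _) }
  obtain ⟨y, hy⟩ := exists_functional_of_quotient hJ hd B hS δ fun p hp hJp => by
    obtain ⟨b, m, hb, hbU, hgm⟩ := hgen ⟨p, hp⟩
    obtain ⟨c, hc⟩ := Ideal.Quotient.mk_surjective (δ m)
    refine ⟨m, c, hc.symm, fun hmem => ?_⟩
    let P := (Scheme.Modules.pushforward U.ι).obj L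
    haveI : L.IsQuasicoherent := H28Mero.isQCoh_of_isInvertible hL
    haveI : IsNoetherianRing (CommRingCat.of A) := ‹IsNoetherianRing A›
    haveI : NoetherianSpace (U : Scheme.{u}) := U.ι.isOpenEmbedding.isInducing.noetherianSpace
    haveI : QuasiCompact U.ι := quasiCompact_of_noetherianSpace_source U.ι
    haveI : P.IsQuasicoherent := H10Coh.isQuasicoherent_pushforward U.ι L
    have hg := isGen_of_genOn P hgm
    let mL : Γ(L, ⊤) := m.1
    let V : (U : Scheme.{u}).Opens := U.ι ⁻¹ᵁ Db (R := CommRingCat.of A) b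
    have hLgen : IsGen L (V := V) (L.presheaf.map (homOfLE (le_top : V ≤ ⊤)).op mL) := by
      refine isGen_of_bijective fun W hW => ?_
      have hWW : U.ι ⁻¹ᵁ (U.ι ''ᵁ W) = W := U.ι.preimage_image_eq W
      have hle : U.ι ''ᵁ W ≤ Db (R := CommRingCat.of A) b := by
        rintro _ ⟨x, hx, rfl⟩
        exact hW hx
      have h0 := hg.bijective hle
      rw [H10Coh.mres_mres] at h0
      rw [H10Coh.mres_mres]
      have h1 : Function.Bijective fun r : Γ(Spec (CommRingCat.of A), U.ι ''ᵁ W) =>
          L.presheaf.map (homOfLE hWW.ge).op (U.ι.app (U.ι ''ᵁ W) r •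
            L.presheaf.map (homOfLE (le_top : U.ι ⁻¹ᵁ (U.ι ''ᵁ W) ≤ ⊤)).op mL) :=
        (ConcreteCategory.bijective_of_isIso (L.presheaf.map (eqToHom hWW.symm).op)).comp h0
      refine (Function.Bijective.of_comp_iff _ ((ConcreteCategory.bijective_of_isIso
        ((U : Scheme.{u}).presheaf.map (eqToHom hWW.symm).op)).comp
          (ConcreteCategory.bijective_of_isIso (U.ι.app (U.ι ''ᵁ W))))).mp ?_
      refine Eq.mpr (congrArg Function.Bijective (funext fun r => ?_)) h1
      rw [Scheme.Modules.map_smul, H10Coh.mres_mres]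
      rfl
    have hpull := hLgen.pullSect (f := i)
    rw [H11Tilde.pullSect_res] at hpull
    obtain ⟨x₀, hx₀, hxp⟩ : ∃ x : Y, x ∈ i ⁻¹ᵁ V ∧ U.ι (i x) = p := by
      have hker : RingHom.ker π ≤ p.asIdeal := by rwa [Ideal.mk_ker]
      obtain ⟨q, hq⟩ : ∃ q : PrimeSpectrum (A ⧸ J), f q = p :=
        ⟨⟨p.asIdeal.map π, Ideal.map_isPrime_of_surjective Ideal.Quotient.mk_surjective hker⟩,
          PrimeSpectrum.ext (by
            show (p.asIdeal.map π).comap π = p.asIdeal
            rw [Ideal.comap_map_of_surjective π Ideal.Quotient.mk_surjective, ← RingHom.ker_eq_comap_bot, sup_eq_left]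
            exact hker)⟩
      obtain ⟨x, hx₁, -⟩ := Scheme.exists_preimage_of_isPullback hY ⟨p, hp⟩ q hq.symm
      exact ⟨x, by show (i x).1 ∈ Db (R := CommRingCat.of A) b; rw [hx₁]; exact hb, by rw [hx₁]; rfl⟩
    have hb' := hpull x₀ hx₀
    simp only [TopCat.Presheaf.germ_res_apply] at hb'
    change Function.Bijective fun r => r • L'.presheaf.germ ⊤ x₀ (Opens.mem_top x₀) (pull m) at hb'
    rw [← hδ₀ m] at hb'
    change Function.Bijective fun r => r • L'.presheaf.germ ⊤ x₀ (Opens.mem_top x₀)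
      (k.appTop ((Scheme.ΓSpecIso _).inv (δ₀ m)) • s) at hb'
    rw [show δ₀ m = π c from hc.symm, H06Mod.germ_smul] at hb'
    obtain ⟨r, hr⟩ := hb'.2 (L'.presheaf.germ ⊤ x₀ (Opens.mem_top x₀) s)
    let G := Y.presheaf.germ ⊤ x₀ (Opens.mem_top x₀) (k.appTop ((Scheme.ΓSpecIso _).inv (π c)))
    have hsbij : Function.Injective fun r : Y.presheaf.stalk x₀ => r • L'.presheaf.germ ⊤ x₀ (Opens.mem_top x₀) s := by
      refine ((H11Tilde.isGen_of_bijective (M := L') (V := ⊤) (e := s) fun W hW => ?_) x₀ (Opens.mem_top x₀)).1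
      refine Eq.mpr (congrArg Function.Bijective (funext fun r => ?_))
        (ConcreteCategory.bijective_of_isIso (e.inv.app W))
      have h2 := app_map_apply e.inv hW (1 : Γ(Y, ⊤))
      refine (congrArg (r • ·) h2.symm).trans ((Scheme.Modules.Hom.app_smul e.inv r _).symm.trans (congrArg _ ?_))
      exact (congrArg (r * ·) (map_one (Y.presheaf.map (homOfLE hW).op).hom)).trans (mul_one r)
    have hG : IsUnit G := IsUnit.of_mul_eq_one r (by
      refine (mul_comm G r).trans (hsbij ?_)
      show (r * G) • _ = (1 : Y.presheaf.stalk x₀) • _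
      rw [one_smul, mul_smul]
      exact hr)
    have h6 : x₀ ∈ Y.basicOpen (k.appTop ((Scheme.ΓSpecIso _).inv (π c))) :=
      (Scheme.mem_basicOpen _ _ _ (Opens.mem_top x₀)).mpr hG
    rw [← Scheme.preimage_basicOpen_top, basicOpen_eq_of_affine] at h6
    refine h6 (show π c ∈ (k x₀).asIdeal from ?_)
    have h7 : (f (k x₀)) = p := by
      rw [← hxp, ← Scheme.Hom.comp_apply, ← hY.w]
      rfl
    have : c ∈ (f (k x₀)).asIdeal := by rw [h7]; exact hmem
    exact this
  exact ⟨y, hy⟩

end Groth.Agent.H23Para.Lift
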